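import Groth.Agent.Lib.LinTop.Basic
import Mathlib.Topology.Algebra.UniformRing
import Mathlib.Topology.Algebra.GroupCompletion

/-!
# Completions of linearly topologized groups and rings; open mapping
-/

namespace Groth.Agent.Lib.LinTop.Completion

open Filter Topology Set UniformSpace

/-- A nearly open continuous homomorphism with dense range out of a complete group with a
countable basis of subgroups is open and surjective. -/
theorem isOpenMap_and_surjective {G H : Type*} [AddCommGroup G] [UniformSpace G]
    [IsUniformAddGroup G] [CompleteSpace G] [AddCommGroup H] [TopologicalSpace H]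
    [IsTopologicalAddGroup H] [T2Space H] (f : G →+ H) (hf : Continuous f) (hd : DenseRange f)
    (S : ℕ → AddSubgroup G) (hS : Antitone S) (hopen : ∀ n, IsOpen (S n : Set G))
    (hsmall : ∀ U ∈ 𝓝 (0 : G), ∃ n, (S n : Set G) ⊆ U)
    (hnear : ∀ n, closure (f '' (S n : Set G)) ∈ 𝓝 (0 : H)) :
    IsOpenMap f ∧ Function.Surjective f := by
  have himg : ∀ n, f '' (S n : Set G) ∈ 𝓝 (0 : H) := fun n ↦
    mem_of_superset (hnear n) (Series.closure_image_subset f hf (fun k ↦ S (n + k))
      (fun i j h ↦ hS (Nat.add_le_add_left h n)) (AddSubgroup.isClosed_of_isOpen _ (hopen _))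
      (fun U hU ↦ (hsmall U hU).imp fun k hk ↦ subset_trans (hS (Nat.le_add_left k n)) hk)
      (fun k ↦ hnear _))
  constructor
  · intro U hU
    rw [isOpen_iff_mem_nhds]
    rintro _ ⟨a, ha, rfl⟩
    obtain ⟨n, hn⟩ := hsmall ((fun x ↦ a + x) ⁻¹' U)
      ((continuous_const.add continuous_id).continuousAt.preimage_mem_nhds
        (by simpa using hU.mem_nhds ha))
    have : (fun y ↦ y - f a) ⁻¹' (f '' (S n : Set G)) ∈ 𝓝 (f a) :=
      (continuous_id.sub continuous_const).continuousAt.preimage_mem_nhds (by simpa using himg n)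
    refine mem_of_superset this fun y hy ↦ ?_
    obtain ⟨x, hx, hxy⟩ := hy
    exact ⟨a + x, hn hx, by rw [map_add, hxy, add_sub_cancel]⟩
  · have hr : IsOpen (f.range : Set H) := AddSubgroup.isOpen_of_mem_nhds _
      (mem_of_superset (himg 0) (image_subset_range _ _))
    exact range_eq_univ.mp
      ((AddSubgroup.isClosed_of_isOpen _ hr).closure_eq.symm.trans hd.closure_eq)

/-- A decreasing sequence of open ideals forming a basis of neighbourhoods of zero. -/
theorem exists_antitone_basis {R M : Type*} [Ring R] [AddCommGroup M] [Module R M]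
    [TopologicalSpace M] [ContinuousAdd M] [IsLinearTopology R M]
    (hc : (𝓝 (0 : M)).IsCountablyGenerated) :
    ∃ S : ℕ → Submodule R M, Antitone S ∧ (∀ n, IsOpen (S n : Set M)) ∧
      ∀ U ∈ 𝓝 (0 : M), ∃ n, (S n : Set M) ⊆ U := by
  obtain ⟨b, hb⟩ := (𝓝 (0 : M)).exists_antitone_basis
  choose J hJ hJb using fun n ↦
    (IsLinearTopology.hasBasis_open_submodule R (M := M)).mem_iff.mp (hb.mem n)
  let S : ℕ → Submodule R M := fun n ↦ Nat.rec (J 0) (fun m T ↦ T ⊓ J (m + 1)) n
  have hle : ∀ n, S n ≤ J n := fun n ↦ by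
    cases n with
    | zero => exact le_rfl
    | succ m => exact inf_le_right
  refine ⟨S, antitone_nat_of_succ_le fun n ↦ inf_le_left, fun n ↦ ?_, fun U hU ↦ ?_⟩
  · induction n with
    | zero => exact hJ 0
    | succ m ih => exact ih.inter (hJ (m + 1))
  · obtain ⟨n, -, hn⟩ := hb.1.mem_iff.mp hU
    exact ⟨n, fun x hx ↦ hn (hJb n (hle n hx))⟩

/-- Along a homomorphism with dense range, the ideal generated by the image of an ideal lies in
the closure of the image. -/
theorem map_subset_closure_image {A B : Type*} [CommRing A] [CommRing B] [TopologicalSpace B]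
    [IsTopologicalRing B] (φ : A →+* B) (hd : DenseRange φ) (I : Ideal A) :
    ((I.map φ : Ideal B) : Set B) ⊆ closure (φ '' (I : Set A)) := by
  intro x hx
  induction hx using Submodule.span_induction with
  | mem x hx => exact subset_closure hx
  | zero => exact subset_closure ⟨0, I.zero_mem, map_zero φ⟩
  | add x y _ _ hx hy =>
    refine map_mem_closure₂ continuous_add hx hy ?_
    rintro _ ⟨a, ha, rfl⟩ _ ⟨b, hb, rfl⟩
    exact ⟨a + b, I.add_mem ha hb, map_add φ a b⟩
  | smul r x _ hx =>
    refine map_mem_closure₂ continuous_mul (hd r) hx ?_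
    rintro _ ⟨a, rfl⟩ _ ⟨b, hb, rfl⟩
    exact ⟨a * b, I.mul_mem_left a hb, map_mul φ a b⟩

theorem closure_map_eq {A B : Type*} [CommRing A] [CommRing B] [TopologicalSpace B]
    [IsTopologicalRing B] (φ : A →+* B) (hd : DenseRange φ) (I : Ideal A) :
    ((I.map φ).closure : Set B) = closure (φ '' (I : Set A)) := by
  rw [Ideal.coe_closure]
  exact subset_antisymm (closure_minimal (map_subset_closure_image φ hd I) isClosed_closure)
    (_root_.closure_mono (image_subset_iff.mpr fun a ha ↦ Ideal.mem_map_of_mem φ ha))

section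

variable {M : Type*} [AddCommGroup M] [UniformSpace M] [IsUniformAddGroup M]

theorem closure_image_mem_nhds {S : Set M} (hS : S ∈ 𝓝 (0 : M)) :
    closure (((↑) : M → Completion M) '' S) ∈ 𝓝 (0 : Completion M) := by
  rw [← Completion.coe_zero]
  exact Completion.isDenseInducing_coe.closure_image_mem_nhds hS

theorem hasBasis_completion {ι : Type*} {p : ι → Prop} {s : ι → Set M}
    (h : (𝓝 (0 : M)).HasBasis p s) :
    (𝓝 (0 : Completion M)).HasBasis p fun i ↦ closure (((↑) : M → Completion M) '' s i) := by
  rw [← Completion.coe_zero]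
  exact h.hasBasis_of_isDenseInducing Completion.isDenseInducing_coe

end

variable {A : Type*} [CommRing A] [UniformSpace A] [IsUniformAddGroup A] [IsTopologicalRing A]

theorem closure_map_coe (I : Ideal A) :
    ((I.map (Completion.coeRingHom : A →+* Completion A)).closure : Set (Completion A)) =
      closure (((↑) : A → Completion A) '' (I : Set A)) :=
  closure_map_eq _ Completion.denseRange_coe I

variable [IsLinearTopology A A]

theorem isLinearTopology : IsLinearTopology (Completion A) (Completion A) := by
  refine isLinearTopology_iff_hasBasis_ideal.mpr ((hasBasis_completion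
    (IsLinearTopology.hasBasis_open_ideal (R := A))).to_hasBasis (fun I hI ↦ ?_) fun J hJ ↦ ?_)
  · refine ⟨(I.map Completion.coeRingHom).closure, ?_, (closure_map_coe I).subset⟩
    rw [closure_map_coe]
    exact closure_image_mem_nhds (Basic.mem_nhds_zero hI)
  · obtain ⟨I, hI, hIJ⟩ := (hasBasis_completion
      (IsLinearTopology.hasBasis_open_ideal (R := A))).mem_iff.mp hJ
    exact ⟨I, hI, hIJ⟩

theorem isTaut : LinTop.IsTaut (Completion.coeRingHom : A →+* Completion A) := by
  refine ⟨Completion.continuous_coe A, fun I hI ↦ ?_, fun U hU ↦ ?_⟩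
  · rw [← Ideal.coe_closure]
    refine Basic.isOpen_of_mem_nhds ?_
    rw [closure_map_coe]
    exact closure_image_mem_nhds (Basic.mem_nhds_zero hI)
  · obtain ⟨I, hI, hIU⟩ := (hasBasis_completion
      (IsLinearTopology.hasBasis_open_ideal (R := A))).mem_iff.mp hU
    exact ⟨I, hI, by rw [← Ideal.coe_closure, closure_map_coe]; exact hIU⟩

end Groth.Agent.Lib.LinTop.Completion
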