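import Groth.Agent.Lib.LinTop.Complete
import Groth.Agent.Lib.LinTop.Completion
import Mathlib.Topology.Algebra.UniformMulAction

/-!
# Completion of a module with an open adically topologized submodule
-/

namespace Groth.Agent.Lib.LinTop.AdicModule

open Filter Topology Set UniformSpace Pointwise

variable {R : Type*} [CommRing R] {M : Type*} [AddCommGroup M] [Module R M] [UniformSpace M]
  [IsUniformAddGroup M] [UniformContinuousConstSMul R M]

variable (R M) in
/-- The linear map into the completion. -/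
noncomputable def cL : M →ₗ[R] Completion M :=
  { (Completion.toCompl : M →+ Completion M) with map_smul' := fun c x ↦ Completion.coe_smul c x }

theorem cL_apply (m : M) : cL R M m = (m : Completion M) := rfl

variable (I : Ideal R) (M' : Submodule R M)

/-- The closure in the completion of the image of `I ^ n • M'`. -/
noncomputable def H (n : ℕ) : Submodule R (Completion M) :=
  ((I ^ n • M').map (cL R M)).topologicalClosure

theorem coe_H (n : ℕ) : (H I M' n : Set (Completion M)) =
    closure (((↑) : M → Completion M) '' ((I ^ n • M' : Submodule R M) : Set M)) := rfl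

theorem smul_mem_H {n : ℕ} {r : R} (hr : r ∈ I ^ n) {x : Completion M} (hx : x ∈ H I M' 0) :
    r • x ∈ H I M' n := by
  refine map_mem_closure (continuous_const_smul r) hx ?_
  rintro _ ⟨m, hm, rfl⟩
  have hm' : m ∈ M' := by simpa using hm
  exact ⟨r • m, Submodule.smul_mem_smul hr hm', map_smul (cL R M) r m⟩

variable (hopen : ∀ n : ℕ, IsOpen ((I ^ n • M' : Submodule R M) : Set M))
variable (hbasis : ∀ U ∈ 𝓝 (0 : M), ∃ n : ℕ, ((I ^ n • M' : Submodule R M) : Set M) ⊆ U)

include hopen in
theorem H_mem_nhds (n : ℕ) : (H I M' n : Set (Completion M)) ∈ 𝓝 0 :=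
  Completion.closure_image_mem_nhds ((hopen n).mem_nhds (zero_mem _))

include hopen hbasis in
theorem exists_H_subset {U : Set (Completion M)} (hU : U ∈ 𝓝 0) :
    ∃ n, (H I M' n : Set (Completion M)) ⊆ U := by
  have hb : (𝓝 (0 : M)).HasBasis (fun _ : ℕ ↦ True)
      (fun n ↦ ((I ^ n • M' : Submodule R M) : Set M)) :=
    ⟨fun U ↦ ⟨fun hU ↦ (hbasis U hU).imp fun n hn ↦ ⟨trivial, hn⟩,
      fun ⟨n, _, hn⟩ ↦ mem_of_superset ((hopen n).mem_nhds (zero_mem _)) hn⟩⟩
  obtain ⟨n, -, hn⟩ := (Completion.hasBasis_completion hb).mem_iff.mp hU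
  exact ⟨n, hn⟩

omit [UniformContinuousConstSMul R M] in
theorem pow_smul_anti {a b : ℕ} (h : a ≤ b) : I ^ b • M' ≤ I ^ a • M' :=
  Submodule.smul_mono_left (Ideal.pow_le_pow_right h)

include hopen hbasis in
theorem pow_smul_H_zero (hI : I.FG) (n : ℕ) : I ^ n • H I M' 0 = H I M' n := by
  refine le_antisymm (Submodule.smul_le.mpr fun r hr x hx ↦ smul_mem_H I M' hr hx) fun x₀ hx₀ ↦ ?_
  have step : ∀ k, ∀ x ∈ H I M' (n + k), ∃ m ∈ I ^ (n + k) • M',
      x - cL R M m ∈ H I M' (n + (k + 1)) := by
    intro k x hx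
    have hnb : (fun y ↦ x - y) ⁻¹' (H I M' (n + (k + 1)) : Set (Completion M)) ∈ 𝓝 x :=
      (continuous_const.sub continuous_id).continuousAt.preimage_mem_nhds
        (by simpa using H_mem_nhds I M' hopen (n + (k + 1)))
    obtain ⟨_, hy, m, hm, rfl⟩ := mem_closure_iff_nhds.mp hx _ hnb
    exact ⟨m, hm, hy⟩
  choose! Y hY hY' using step
  let b : ℕ → Completion M := fun k ↦ Nat.rec x₀ (fun m x ↦ x - cL R M (Y m x)) k
  have hb : ∀ k, b k ∈ H I M' (n + k) := by
    intro k
    induction k with
    | zero => exact hx₀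
    | succ k ih => exact hY' k (b k) ih
  obtain ⟨a, ha, hlim⟩ := Complete.exists_lim_mem_smul (fun k ↦ (I ^ k • M').map (cL R M))
    (fun i j h ↦ Submodule.map_mono (pow_smul_anti I M' h))
    (fun U hU ↦ (exists_H_subset I M' hopen hbasis hU).imp fun k hk ↦ subset_closure.trans hk)
    (hI.pow (n := n)) (fun k ↦ cL R M (Y k (b k))) (fun k ↦ by
      rw [← Submodule.map_smul'', ← mul_smul, ← pow_add]
      exact Submodule.mem_map_of_mem (hY k _ (hb k)))
  have hsum : ∀ k, ∑ m ∈ Finset.range k, cL R M (Y m (b m)) = x₀ - b k := by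
    intro k
    induction k with
    | zero => simp [b]
    | succ k ih =>
      rw [Finset.sum_range_succ, ih]
      show x₀ - b k + cL R M (Y k (b k)) = x₀ - (b k - cL R M (Y k (b k)))
      abel
  have hb0 : Tendsto b atTop (𝓝 0) := by
    intro U hU
    obtain ⟨k, hk⟩ := exists_H_subset I M' hopen hbasis hU
    refine mem_map.mpr (mem_atTop_sets.mpr ⟨k, fun m hm ↦ hk ?_⟩)
    exact closure_mono (image_mono (pow_smul_anti I M' (by omega))) (hb m)
  simp only [hsum] at hlim
  have : x₀ = a := tendsto_nhds_unique (by simpa using tendsto_const_nhds.sub hb0) hlim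
  rw [this]
  exact ha

include hopen hbasis in
theorem exists_sub_mem (hI : I.FG) (n : ℕ) (y : Completion M) :
    ∃ m : M, (m : Completion M) - y ∈ I ^ n • (⊤ : Submodule R (Completion M)) := by
  have hnb : (fun z ↦ z - y) ⁻¹' (H I M' n : Set (Completion M)) ∈ 𝓝 y :=
    (continuous_id.sub continuous_const).continuousAt.preimage_mem_nhds
      (by simpa using H_mem_nhds I M' hopen n)
  obtain ⟨_, hm, m, rfl⟩ := mem_closure_iff_nhds.mp (UniformSpace.Completion.denseRange_coe y) _ hnb
  refine ⟨m, ?_⟩
  have h1 : (m : Completion M) - y ∈ H I M' n := hm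
  rw [← pow_smul_H_zero I M' hopen hbasis hI n] at h1
  exact Submodule.smul_mono le_rfl le_top h1

include hopen in
theorem coe_mem_pow_smul_iff (n : ℕ) (m : M) :
    (m : Completion M) ∈ I ^ n • (⊤ : Submodule R (Completion M)) ↔
      m ∈ I ^ n • (⊤ : Submodule R M) := by
  constructor
  · intro h
    have hle : I ^ n • (⊤ : Submodule R (Completion M)) ≤
        ((I ^ n • (⊤ : Submodule R M)).map (cL R M)).topologicalClosure := by
      refine Submodule.smul_le.mpr fun r hr y _ ↦ ?_
      refine map_mem_closure (continuous_const_smul r) (UniformSpace.Completion.denseRange_coe y) ?_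
      rintro _ ⟨a, rfl⟩
      exact ⟨r • a, Submodule.smul_mem_smul hr Submodule.mem_top, map_smul (cL R M) r a⟩
    have h1 : m ∈ ((↑) : M → Completion M) ⁻¹'
        closure (((↑) : M → Completion M) '' ((I ^ n • (⊤ : Submodule R M) : Submodule R M) : Set M)) := hle h
    rw [← (UniformSpace.Completion.isUniformInducing_coe M).isInducing.closure_eq_preimage_closure_image] at h1
    have ho : IsOpen ((I ^ n • (⊤ : Submodule R M)).toAddSubgroup : Set M) :=
      AddSubgroup.isOpen_mono (H₁ := (I ^ n • M').toAddSubgroup)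
        (fun x hx ↦ Submodule.smul_mono le_rfl le_top hx) (hopen n)
    exact (AddSubgroup.isClosed_of_isOpen _ ho).closure_subset h1
  · intro h
    have h1 := Submodule.mem_map_of_mem (f := cL R M) h
    rw [Submodule.map_smul''] at h1
    exact Submodule.smul_mono le_rfl le_top h1

end Groth.Agent.Lib.LinTop.AdicModule
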