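import Mathlib.Topology.Algebra.IsUniformGroup.Basic
import Mathlib.Topology.Algebra.Group.Basic

/-!
# Series and nearly open homomorphisms for complete groups filtered by subgroups
-/

namespace Groth.Agent.Lib.LinTop.Series

open Filter Topology Set

variable {G : Type*} [AddCommGroup G] [UniformSpace G] [IsUniformAddGroup G]

/-- In a complete group, a series whose `m`-th term lies in the `m`-th member of a decreasing
sequence of subgroups shrinking to `0` converges, to an element of the closure of the first one. -/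
theorem exists_tendsto_sum [CompleteSpace G] (S : ℕ → AddSubgroup G) (hS : Antitone S)
    (hsmall : ∀ U ∈ 𝓝 (0 : G), ∃ n, (S n : Set G) ⊆ U) (d : ℕ → G) (hd : ∀ m, d m ∈ S m) :
    ∃ a, a ∈ closure (S 0 : Set G) ∧
      Tendsto (fun n ↦ ∑ m ∈ Finset.range n, d m) atTop (𝓝 a) := by
  set s := fun n ↦ ∑ m ∈ Finset.range n, d m with hs
  have hstep : ∀ n k, s (n + k) - s n ∈ S n := by
    intro n k
    induction k with
    | zero => simp
    | succ k ih =>
      have : s (n + (k + 1)) - s n = (s (n + k) - s n) + d (n + k) := by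
        simp only [hs, ← add_assoc, Finset.sum_range_succ]; abel
      exact this ▸ (S n).add_mem ih (hS (Nat.le_add_right n k) (hd _))
  have hc : CauchySeq s := by
    rw [cauchySeq_iff]
    intro V hV
    rw [uniformity_eq_comap_nhds_zero] at hV
    obtain ⟨U, hU, hUV⟩ := hV
    obtain ⟨n, hn⟩ := hsmall U hU
    refine ⟨n, fun k hk l hl ↦ hUV (hn ?_)⟩
    obtain ⟨k, rfl⟩ := Nat.exists_eq_add_of_le hk
    obtain ⟨l, rfl⟩ := Nat.exists_eq_add_of_le hl
    simpa using (S n).sub_mem (hstep n l) (hstep n k)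
  obtain ⟨a, ha⟩ := cauchySeq_tendsto_of_complete hc
  refine ⟨a, mem_closure_of_tendsto ha (.of_forall fun n ↦ ?_), ha⟩
  exact (S 0).sum_mem fun m _ ↦ hS (Nat.zero_le m) (hd m)

variable {H : Type*} [AddCommGroup H] [TopologicalSpace H] [IsTopologicalAddGroup H] [T2Space H]

/-- A continuous homomorphism out of a complete group for which the closures of the images of a
sequence of subgroups shrinking to `0` are neighbourhoods of `0` maps the first of them (when
closed) onto the closure of its image. -/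
theorem closure_image_subset [CompleteSpace G] (f : G →+ H) (hf : Continuous f)
    (S : ℕ → AddSubgroup G) (hS : Antitone S) (hclosed : IsClosed (S 0 : Set G))
    (hsmall : ∀ U ∈ 𝓝 (0 : G), ∃ n, (S n : Set G) ⊆ U)
    (hnear : ∀ n, closure (f '' (S (n + 1) : Set G)) ∈ 𝓝 (0 : H)) :
    closure (f '' (S 0 : Set G)) ⊆ f '' (S 0 : Set G) := by
  intro b₀ hb₀
  have step : ∀ n b, b ∈ closure (f '' (S n : Set G)) →
      ∃ a ∈ S n, b - f a ∈ closure (f '' (S (n + 1) : Set G)) := by
    intro n b hb
    have hc : ContinuousAt (fun y : H ↦ b - y) b := (continuous_const.sub continuous_id).continuousAt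
    have hnb : (fun y : H ↦ b - y) ⁻¹' closure (f '' (S (n + 1) : Set G)) ∈ 𝓝 b := by
      exact hc.preimage_mem_nhds (by simpa using hnear n)
    obtain ⟨_, hy, a, ha, rfl⟩ := mem_closure_iff_nhds.mp hb _ hnb
    exact ⟨a, ha, hy⟩
  choose! A hA hA' using step
  let b : ℕ → H := fun n ↦ Nat.rec b₀ (fun m y ↦ y - f (A m y)) n
  have hb : ∀ n, b n ∈ closure (f '' (S n : Set G)) := by
    intro n
    induction n with
    | zero => exact hb₀
    | succ n ih => exact hA' n (b n) ih
  obtain ⟨a, ha, hlim⟩ := exists_tendsto_sum S hS hsmall (fun m ↦ A m (b m)) (fun m ↦ hA m _ (hb m))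
  refine ⟨a, hclosed.closure_eq ▸ ha, ?_⟩
  have hsum : ∀ n, f (∑ m ∈ Finset.range n, A m (b m)) = b₀ - b n := by
    intro n
    induction n with
    | zero => simp [b]
    | succ n ih =>
      rw [Finset.sum_range_succ, map_add, ih]
      show b₀ - b n + f (A n (b n)) = b₀ - (b n - f (A n (b n)))
      abel
  have h1 : Tendsto (fun n ↦ b₀ - b n) atTop (𝓝 (f a)) := by
    simpa [hsum] using (hf.tendsto a).comp hlim |>.congr (fun n ↦ hsum n)
  have h2 : Tendsto b atTop (𝓝 0) := by
    rw [(closed_nhds_basis (0 : H)).tendsto_right_iff]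
    rintro V ⟨hV, hVc⟩
    obtain ⟨n, hn⟩ := hsmall (f ⁻¹' V) (hf.continuousAt.preimage_mem_nhds (by simpa using hV))
    refine eventually_atTop.mpr ⟨n, fun m hm ↦ ?_⟩
    exact closure_minimal (image_subset_iff.mpr fun x hx ↦ hn (hS hm hx)) hVc (hb m)
  exact tendsto_nhds_unique h1 (by simpa using tendsto_const_nhds.sub h2)

/-- Finite powers of a shrinking sequence of subgroups shrink. -/
theorem pi_small {ι : Type*} [Finite ι] (S : ℕ → AddSubgroup G) (hS : Antitone S)
    (hsmall : ∀ U ∈ 𝓝 (0 : G), ∃ n, (S n : Set G) ⊆ U) :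
    ∀ U ∈ 𝓝 (0 : ι → G), ∃ n, (AddSubgroup.pi univ (fun _ : ι ↦ S n) : Set (ι → G)) ⊆ U := by
  intro U hU
  rw [nhds_pi, Filter.mem_pi'] at hU
  obtain ⟨I, t, ht, hsub⟩ := hU
  choose n hn using fun i ↦ hsmall (t i) (ht i)
  obtain ⟨N, hN⟩ := Finite.exists_le n
  exact ⟨N, fun x hx ↦ hsub fun i _ ↦ hn i (hS (hN i) (hx i trivial))⟩

end Groth.Agent.Lib.LinTop.Series
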