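import Groth.Prelude.Def_LinTop
import Groth.Prelude.Def_W4stk3formalspacesTaut
import Groth.Agent.Lib.LinTop.Series
import Mathlib.Topology.Algebra.OpenSubgroup
import Mathlib.Topology.Algebra.Ring.Ideal
import Mathlib.RingTheory.Nilpotent.Lemmas

/-!
# Linearly topologized rings: elementary lemmas
-/

namespace Groth.Agent.Lib.LinTop.Basic

open Filter Topology Set

/-- The closure of a submodule, computed on a basis of submodule neighbourhoods of `0`. -/
theorem closure_submodule_eq {R M : Type*} [Ring R] [AddCommGroup M] [Module R M]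
    [TopologicalSpace M] [IsTopologicalAddGroup M] {ι : Type*} {p : ι → Prop} (B : ι → Submodule R M)
    (hB : (𝓝 (0 : M)).HasBasis p (fun i ↦ (B i : Set M))) (N : Submodule R M) :
    closure (N : Set M) = ⋂ (i) (_ : p i), ((N ⊔ B i : Submodule R M) : Set M) := by
  ext x
  simp only [mem_iInter, SetLike.mem_coe]
  constructor
  · intro hx i hi
    have : (fun y ↦ y - x) ⁻¹' (B i : Set M) ∈ 𝓝 x :=
      (continuous_id.sub continuous_const).continuousAt.preimage_mem_nhds
        (by simpa using hB.mem_of_mem hi)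
    obtain ⟨y, hy, hyN⟩ := mem_closure_iff_nhds.mp hx _ this
    have e : x = y + -(y - x) := by abel
    rw [e]
    exact Submodule.add_mem_sup hyN (neg_mem (show y - x ∈ B i from hy))
  · intro h
    rw [mem_closure_iff_nhds]
    intro U hU
    have : (fun y ↦ x + y) ⁻¹' U ∈ 𝓝 (0 : M) :=
      (continuous_const.add continuous_id).continuousAt.preimage_mem_nhds (by simpa using hU)
    obtain ⟨i, hi, hiU⟩ := hB.mem_iff.mp this
    obtain ⟨y, hy, z, hz, hyz⟩ := Submodule.mem_sup.mp (h i hi)
    refine ⟨y, ?_, hy⟩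
    have := hiU (neg_mem hz : -z ∈ B i)
    simpa [← hyz] using this

variable {A : Type*} [CommRing A] [TopologicalSpace A]

theorem exists_open_ideal [ContinuousAdd A] [IsLinearTopology A A] {U : Set A} (hU : U ∈ 𝓝 0) :
    ∃ I : Ideal A, IsOpen (I : Set A) ∧ (I : Set A) ⊆ U := by
  obtain ⟨I, hI, hIU⟩ := (IsLinearTopology.hasBasis_open_ideal (R := A)).mem_iff.mp hU
  exact ⟨I, hI, hIU⟩

theorem mem_nhds_zero {I : Ideal A} (hI : IsOpen (I : Set A)) : (I : Set A) ∈ 𝓝 0 :=
  hI.mem_nhds I.zero_mem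

theorem isOpen_of_le [ContinuousAdd A] {I J : Ideal A} (h : I ≤ J) (hI : IsOpen (I : Set A)) :
    IsOpen (J : Set A) :=
  AddSubgroup.isOpen_mono (H₁ := I.toAddSubgroup) (H₂ := J.toAddSubgroup) h hI

variable [IsTopologicalRing A]

theorem isClosed_of_isOpen {I : Ideal A} (hI : IsOpen (I : Set A)) : IsClosed (I : Set A) :=
  AddSubgroup.isClosed_of_isOpen I.toAddSubgroup hI

theorem isOpen_of_mem_nhds {I : Ideal A} (hI : (I : Set A) ∈ 𝓝 0) : IsOpen (I : Set A) :=
  AddSubgroup.isOpen_of_mem_nhds I.toAddSubgroup hI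

theorem le_closure (I : Ideal A) : I ≤ I.closure := fun _ hx ↦ subset_closure hx

theorem closure_mono {I J : Ideal A} (h : I ≤ J) : I.closure ≤ J.closure :=
  fun _ hx ↦ _root_.closure_mono h hx

theorem closure_le {I J : Ideal A} (h : I ≤ J) (hJ : IsClosed (J : Set A)) : I.closure ≤ J :=
  fun _ hx ↦ closure_minimal h hJ hx

theorem closure_le_of_isOpen {I J : Ideal A} (h : I ≤ J) (hJ : IsOpen (J : Set A)) :
    I.closure ≤ J :=
  closure_le h (isClosed_of_isOpen hJ)

theorem isClosed_closure' (I : Ideal A) : IsClosed (I.closure : Set A) := by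
  rw [Ideal.coe_closure]; exact isClosed_closure

theorem closure_mul_le (I J : Ideal A) : I.closure * J.closure ≤ (I * J).closure := by
  rw [Ideal.mul_le]
  intro x hx y hy
  exact map_mem_closure₂ continuous_mul hx hy fun a ha b hb ↦ Ideal.mul_mem_mul ha hb

theorem closure_pow_le (I : Ideal A) (n : ℕ) : I.closure ^ n ≤ (I ^ n).closure := by
  induction n with
  | zero => simpa using le_closure (⊤ : Ideal A)
  | succ n ih =>
    rw [pow_succ, pow_succ]
    exact (mul_le_mul' ih le_rfl).trans (closure_mul_le _ _)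

theorem map_closure_le {B : Type*} [CommRing B] [TopologicalSpace B] [IsTopologicalRing B]
    (φ : A →+* B) (hφ : Continuous φ) (I : Ideal A) : I.closure.map φ ≤ (I.map φ).closure := by
  rw [Ideal.map_le_iff_le_comap]
  intro x hx
  exact map_mem_closure hφ hx fun a ha ↦ Ideal.mem_map_of_mem φ ha

theorem closure_map_closure {B : Type*} [CommRing B] [TopologicalSpace B] [IsTopologicalRing B]
    (φ : A →+* B) (hφ : Continuous φ) (I : Ideal A) :
    (I.closure.map φ).closure = (I.map φ).closure :=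
  le_antisymm (closure_le (map_closure_le φ hφ I) (isClosed_closure' _))
    (closure_mono (Ideal.map_mono (le_closure I)))

variable [IsLinearTopology A A]

/-- Membership in the closure of an ideal. -/
theorem mem_closure_iff_forall {N : Ideal A} {x : A} :
    x ∈ N.closure ↔ ∀ U : Ideal A, IsOpen (U : Set A) → x ∈ N ⊔ U := by
  rw [← SetLike.mem_coe, Ideal.coe_closure,
    closure_submodule_eq (R := A) (M := A) _root_.id IsLinearTopology.hasBasis_open_ideal N]
  simp [mem_iInter]

theorem isTopologicallyNilpotent_iff {x : A} :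
    IsTopologicallyNilpotent x ↔ ∀ U : Ideal A, IsOpen (U : Set A) → ∃ n, x ^ n ∈ U := by
  constructor
  · exact fun h U hU ↦ h.exists_pow_mem_of_mem_nhds (mem_nhds_zero hU)
  · intro h
    rw [IsTopologicallyNilpotent, (IsLinearTopology.hasBasis_open_ideal (R := A)).tendsto_right_iff]
    intro U hU
    obtain ⟨n, hn⟩ := h U hU
    exact eventually_atTop.mpr ⟨n, fun m hm ↦ U.pow_mem_of_pow_mem hn hm⟩

theorem span_pow_small {x : A} (hx : IsTopologicallyNilpotent x) {U : Set A} (hU : U ∈ 𝓝 0) :
    ∃ n : ℕ, ((Ideal.span {x ^ n} : Ideal A) : Set A) ⊆ U := by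
  obtain ⟨J, hJ, hJU⟩ := exists_open_ideal hU
  obtain ⟨n, hn⟩ := isTopologicallyNilpotent_iff.mp hx J hJ
  exact ⟨n, fun y hy ↦ hJU ((Ideal.span_singleton_le_iff_mem J).mpr hn hy)⟩

theorem isIdealOfDefinition_iff {I : Ideal A} :
    LinTop.IsIdealOfDefinition A I ↔
      IsOpen (I : Set A) ∧ ∀ U : Ideal A, IsOpen (U : Set A) → ∃ n : ℕ, I ^ n ≤ U := by
  constructor
  · refine fun h ↦ ⟨h.1, fun U hU ↦ ?_⟩
    obtain ⟨n, -, hn⟩ := h.2 U (mem_nhds_zero hU)
    exact ⟨n, hn⟩
  · refine fun h ↦ ⟨h.1, fun U hU ↦ ?_⟩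
    obtain ⟨J, hJ, hJU⟩ := exists_open_ideal hU
    obtain ⟨n, hn⟩ := h.2 J hJ
    exact ⟨n + 1, n.succ_pos, fun x hx ↦ hJU (hn (Ideal.pow_le_pow_right n.le_succ hx))⟩

/-- Elements of an ideal of definition are topologically nilpotent. -/
theorem isTopologicallyNilpotent_of_mem {I : Ideal A} (hI : LinTop.IsIdealOfDefinition A I) {x : A}
    (hx : x ∈ I) : IsTopologicallyNilpotent x :=
  isTopologicallyNilpotent_iff.mpr fun U hU ↦
    ((isIdealOfDefinition_iff.mp hI).2 U hU).imp fun n hn ↦ hn (Ideal.pow_mem_pow hx n)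

theorem isWeakIdealOfDefinition {I : Ideal A} (hI : LinTop.IsIdealOfDefinition A I) :
    LinTop.IsWeakIdealOfDefinition A I :=
  ⟨hI.1, fun _ hx ↦ isTopologicallyNilpotent_of_mem hI hx⟩

/-- The topological nilradical is closed. -/
theorem isClosed_topologicalNilradical : IsClosed ((topologicalNilradical A : Ideal A) : Set A) := by
  refine isClosed_of_closure_subset fun g hg ↦ ?_
  rw [SetLike.mem_coe, IsTopologicallyNilpotent.mem_topologicalNilradical_iff, isTopologicallyNilpotent_iff]
  intro U hU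
  have hg' : g ∈ (topologicalNilradical A).closure := hg
  obtain ⟨f, hf, u, hu, rfl⟩ := Submodule.mem_sup.mp (mem_closure_iff_forall.mp hg' U hU)
  obtain ⟨n, hn⟩ := isTopologicallyNilpotent_iff.mp (IsTopologicallyNilpotent.mem_topologicalNilradical_iff.mp hf) U hU
  refine ⟨n, ?_⟩
  rw [← Ideal.Quotient.eq_zero_iff_mem, map_pow, map_add, Ideal.Quotient.eq_zero_iff_mem.mpr hu,
    add_zero, ← map_pow, Ideal.Quotient.eq_zero_iff_mem]
  exact hn

/-- The closure of the ideal generated by the image of topologically nilpotent elements consists of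
topologically nilpotent elements. -/
theorem isTopologicallyNilpotent_closure_map {R : Type*} [CommRing R] [TopologicalSpace R]
    (φ : R →+* A) (hφ : Continuous φ) (I : Ideal R) (hI : ∀ f ∈ I, IsTopologicallyNilpotent f) :
    ∀ g ∈ (I.map φ).closure, IsTopologicallyNilpotent g := by
  intro g hg
  have h : I.map φ ≤ topologicalNilradical A := Ideal.map_le_iff_le_comap.mpr fun f hf ↦
    IsTopologicallyNilpotent.mem_topologicalNilradical_iff.mpr ((hI f hf).map hφ)
  exact IsTopologicallyNilpotent.mem_topologicalNilradical_iff.mp (closure_le h isClosed_topologicalNilradical hg)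

end Groth.Agent.Lib.LinTop.Basic
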