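import Groth.Agent.Lib.LinTop.Completion

/-!
# Completion of a quotient of a linearly topologized module
-/

namespace Groth.Agent.Lib.LinTop.QuotCompletion

open Filter Topology Set UniformSpace

variable {R M : Type*} [Ring R] [AddCommGroup M] [Module R M] [UniformSpace M]
  [IsUniformAddGroup M]

/-- The closure, in the completion, of the image of a submodule. -/
noncomputable def hat (U : Submodule R M) : AddSubgroup (Completion M) :=
  (U.toAddSubgroup.map Completion.toCompl).topologicalClosure

theorem coe_hat (U : Submodule R M) :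
    (hat U : Set (Completion M)) = closure (((↑) : M → Completion M) '' (U : Set M)) := rfl

theorem hat_mem_nhds {U : Submodule R M} (hU : IsOpen (U : Set M)) :
    (hat U : Set (Completion M)) ∈ 𝓝 0 :=
  Completion.closure_image_mem_nhds (hU.mem_nhds U.zero_mem)

variable (N : Submodule R M)

local instance instU : UniformSpace (M ⧸ N.toAddSubgroup) :=
  IsTopologicalAddGroup.rightUniformSpace (M ⧸ N.toAddSubgroup)

theorem isUniformAddGroup : IsUniformAddGroup (M ⧸ N.toAddSubgroup) :=
  isUniformAddGroup_of_addCommGroup

attribute [local instance] isUniformAddGroup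

theorem continuous_mk' : Continuous (QuotientAddGroup.mk' N.toAddSubgroup) :=
  continuous_quot_mk

theorem uniformContinuous_mk' : UniformContinuous (QuotientAddGroup.mk' N.toAddSubgroup) :=
  uniformContinuous_addMonoidHom_of_continuous (continuous_mk' N)

/-- The map between completions induced by the quotient map. -/
noncomputable def mapHom : Completion M →+ Completion (M ⧸ N.toAddSubgroup) where
  toFun := Completion.map (QuotientAddGroup.mk' N.toAddSubgroup)
  map_zero' := by
    rw [← Completion.coe_zero, Completion.map_coe (uniformContinuous_mk' N), map_zero,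
      Completion.coe_zero]
  map_add' x y := by
    induction x, y using Completion.induction_on₂ with
    | hp =>
      exact isClosed_eq (Completion.continuous_map.comp continuous_add)
        (Continuous.add (by exact Completion.continuous_map.comp continuous_fst)
          (by exact Completion.continuous_map.comp continuous_snd))
    | ih a b =>
      rw [← Completion.coe_add, Completion.map_coe (uniformContinuous_mk' N),
        Completion.map_coe (uniformContinuous_mk' N), Completion.map_coe (uniformContinuous_mk' N),
        map_add, Completion.coe_add]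

theorem mapHom_coe (m : M) :
    mapHom N (m : Completion M) = (QuotientAddGroup.mk' N.toAddSubgroup m : Completion (M ⧸ N.toAddSubgroup)) :=
  Completion.map_coe (uniformContinuous_mk' N) m

theorem continuous_mapHom : Continuous (mapHom N) := Completion.continuous_map

theorem denseRange_mapHom : DenseRange (mapHom N) := by
  refine Dense.mono ?_ (Completion.denseRange_coe (α := M ⧸ N.toAddSubgroup))
  rintro _ ⟨z, rfl⟩
  obtain ⟨m, rfl⟩ := QuotientAddGroup.mk'_surjective N.toAddSubgroup z
  exact ⟨(m : Completion M), mapHom_coe N m⟩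

variable [IsLinearTopology R M]

theorem mapHom_preimage_zero :
    mapHom N ⁻¹' {0} = closure (range fun n : N ↦ ((n : M) : Completion M)) := by
  refine subset_antisymm (fun x hx ↦ ?_) ?_
  · refine mem_closure_iff_nhds.mpr fun V hV ↦ ?_
    obtain ⟨U, hU, hUV⟩ := (Completion.hasBasis_completion
      (IsLinearTopology.hasBasis_open_submodule R (M := M))).mem_iff.mp
      (show (fun y ↦ x + y) ⁻¹' V ∈ 𝓝 (0 : Completion M) from
        (continuous_const.add continuous_id).continuousAt.preimage_mem_nhds (by simpa using hV))
    have hnb : (fun y ↦ y - x) ⁻¹' (hat U : Set (Completion M)) ∈ 𝓝 x :=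
      (continuous_id.sub continuous_const).continuousAt.preimage_mem_nhds
        (by simpa using hat_mem_nhds hU)
    obtain ⟨_, hm, m, rfl⟩ := mem_closure_iff_nhds.mp (UniformSpace.Completion.denseRange_coe x) _ hnb
    have h1 : mapHom N ((m : Completion M) - x) ∈
        closure (mapHom N '' (((↑) : M → Completion M) '' (U : Set M))) :=
      image_closure_subset_closure_image (continuous_mapHom N) ⟨_, hm, rfl⟩
    rw [map_sub, show mapHom N x = 0 from hx, sub_zero, mapHom_coe, image_image] at h1
    simp only [mapHom_coe] at h1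
    rw [← image_image (fun z : M ⧸ N.toAddSubgroup ↦ (z : Completion (M ⧸ N.toAddSubgroup)))
      (fun u ↦ QuotientAddGroup.mk' N.toAddSubgroup u), ← mem_preimage,
      ← (UniformSpace.Completion.isUniformInducing_coe _).isInducing.closure_eq_preimage_closure_image] at h1
    have hop : IsOpen ((U.toAddSubgroup.map (QuotientAddGroup.mk' N.toAddSubgroup)) :
        Set (M ⧸ N.toAddSubgroup)) := QuotientAddGroup.isOpenMap_coe _ hU
    obtain ⟨u, hu, hum⟩ : QuotientAddGroup.mk' N.toAddSubgroup m ∈
        (QuotientAddGroup.mk' N.toAddSubgroup) '' (U : Set M) :=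
      (AddSubgroup.isClosed_of_isOpen _ hop).closure_subset h1
    have hn : m - u ∈ N := by
      rw [QuotientAddGroup.mk'_apply, QuotientAddGroup.mk'_apply,
        QuotientAddGroup.eq_iff_sub_mem] at hum
      simpa using neg_mem hum
    have key : ((m - u : M) : Completion M) - x ∈ hat U := by
      rw [Completion.coe_sub, sub_right_comm]
      exact (hat U).sub_mem hm (subset_closure ⟨u, hu, rfl⟩)
    exact ⟨((m - u : M) : Completion M), by simpa using hUV key, ⟨⟨m - u, hn⟩, rfl⟩⟩
  · refine closure_minimal ?_ (isClosed_singleton.preimage (continuous_mapHom N))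
    rintro _ ⟨n, rfl⟩
    show mapHom N _ = 0
    rw [mapHom_coe, show QuotientAddGroup.mk' N.toAddSubgroup (n : M) = 0 from
      (QuotientAddGroup.eq_zero_iff _).mpr n.2, Completion.coe_zero]

theorem surjective_and_isOpenMap_mapHom (hc : (𝓝 (0 : M)).IsCountablyGenerated) :
    Function.Surjective (mapHom N) ∧ IsOpenMap (mapHom N) := by
  obtain ⟨S, hS, hopen, hsmall⟩ := Completion.exists_antitone_basis (R := R) hc
  have hb : (𝓝 (0 : M)).HasBasis (fun _ : ℕ ↦ True) (fun n ↦ (S n : Set M)) :=
    ⟨fun U ↦ ⟨fun hU ↦ (hsmall U hU).imp fun n hn ↦ ⟨trivial, hn⟩,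
      fun ⟨n, _, hn⟩ ↦ mem_of_superset ((hopen n).mem_nhds (S n).zero_mem) hn⟩⟩
  refine (Completion.isOpenMap_and_surjective (mapHom N) (continuous_mapHom N) (denseRange_mapHom N)
    (fun n ↦ hat (S n)) (fun i j h ↦ ?_) (fun n ↦ ?_) (fun U hU ↦ ?_) fun n ↦ ?_).symm
  · exact fun x hx ↦ closure_mono (image_mono (hS h)) hx
  · exact AddSubgroup.isOpen_of_mem_nhds _ (hat_mem_nhds (hopen n))
  · obtain ⟨n, -, hn⟩ := (Completion.hasBasis_completion hb).mem_iff.mp hU
    exact ⟨n, hn⟩
  · have h0 : (QuotientAddGroup.mk' N.toAddSubgroup) '' (S n : Set M) ∈ 𝓝 (0 : M ⧸ N.toAddSubgroup) :=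
      (QuotientAddGroup.isOpenMap_coe _ (hopen n)).mem_nhds ⟨0, (S n).zero_mem, rfl⟩
    refine mem_of_superset (Completion.closure_image_mem_nhds h0) (closure_mono ?_)
    rintro _ ⟨_, ⟨u, hu, rfl⟩, rfl⟩
    exact ⟨(u : Completion M), subset_closure ⟨u, hu, rfl⟩, mapHom_coe N u⟩

end Groth.Agent.Lib.LinTop.QuotCompletion
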