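import Groth.Agent.Lib.LinTop.Basic

/-!
# Taut homomorphisms, weakly pre-adic rings, faithfully flat descent
-/

namespace Groth.Agent.Lib.LinTop.Taut

open Filter Topology Set

variable {A : Type*} [CommRing A] [TopologicalSpace A]
variable {B : Type*} [CommRing B] [TopologicalSpace B] [IsTopologicalRing B]

theorem isOpen_closure_map {φ : A →+* B} (hφ : LinTop.IsTaut φ) {I : Ideal A}
    (hI : IsOpen (I : Set A)) : IsOpen ((I.map φ).closure : Set B) :=
  hφ.2.1 I hI

theorem isIdealOfDefinition_closure_map {φ : A →+* B} (hφ : LinTop.IsTaut φ) {I : Ideal A}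
    (hI : LinTop.IsIdealOfDefinition A I) : LinTop.IsIdealOfDefinition B (I.map φ).closure := by
  refine ⟨isOpen_closure_map hφ hI.1, fun U hU ↦ ?_⟩
  obtain ⟨I', hI', hsub⟩ := hφ.2.2 U hU
  obtain ⟨n, hn0, hn⟩ := hI.2 _ (Basic.mem_nhds_zero hI')
  refine ⟨n, hn0, fun x hx ↦ hsub ?_⟩
  have h1 := Basic.closure_pow_le (I.map φ) n hx
  rw [← Ideal.map_pow] at h1
  exact Basic.closure_mono (Ideal.map_mono (show I ^ n ≤ I' from hn)) h1

/-- A finitely generated ideal below `map φ I ⊔ L` is below `map φ I' ⊔ L` for a finitely generated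
`I' ≤ I`. -/
theorem exists_fg_le {R S : Type*} [CommRing R] [CommRing S] (φ : R →+* S) (I : Ideal R)
    (L : Ideal S) {N : Ideal S} (hN : N.FG) (h : N ≤ I.map φ ⊔ L) :
    ∃ I' : Ideal R, I'.FG ∧ I' ≤ I ∧ N ≤ I'.map φ ⊔ L := by
  classical
  induction N, hN using Submodule.fg_induction with
  | singleton y =>
    obtain ⟨a, ha, b, hb, rfl⟩ := Submodule.mem_sup.mp (h (Submodule.mem_span_singleton_self y))
    obtain ⟨T, hTsub, haT⟩ := Submodule.mem_span_finite_of_mem_span ha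
    obtain ⟨s, hs, rfl⟩ := Finset.subset_set_image_iff.mp hTsub
    refine ⟨Ideal.span (s : Set R), ⟨s, rfl⟩, Ideal.span_le.mpr hs, ?_⟩
    rw [Submodule.span_le, singleton_subset_iff, Ideal.map_span]
    rw [Finset.coe_image] at haT
    exact Submodule.add_mem_sup haT hb
  | sup N₁ N₂ _ _ h₁ h₂ =>
    obtain ⟨I₁, hf₁, hl₁, hN₁⟩ := h₁ (le_sup_left.trans h)
    obtain ⟨I₂, hf₂, hl₂, hN₂⟩ := h₂ (le_sup_right.trans h)
    refine ⟨I₁ ⊔ I₂, Submodule.FG.sup hf₁ hf₂, sup_le hl₁ hl₂, sup_le (hN₁.trans ?_) (hN₂.trans ?_)⟩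
    · exact sup_le_sup_right (Ideal.map_mono le_sup_left) L
    · exact sup_le_sup_right (Ideal.map_mono le_sup_right) L

section weakly

variable {R : Type*} [CommRing R] [TopologicalSpace R] [IsTopologicalRing R]

theorem isPreadmissible_of_isWeaklyPreadic (h : LinTop.IsWeaklyPreadic R) :
    LinTop.IsPreadmissible R := by
  obtain ⟨hlin, I, hopen, hsmall⟩ := h
  refine ⟨hlin, I.closure, by simpa using hopen 1, fun U hU ↦ ?_⟩
  obtain ⟨n, hn⟩ := hsmall U hU
  refine ⟨n + 1, n.succ_pos, fun x hx ↦ hn ?_⟩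
  exact Basic.closure_mono (Ideal.pow_le_pow_right n.le_succ) (Basic.closure_pow_le I (n + 1) hx)

theorem isOpen_closure_pow (h : LinTop.IsWeaklyPreadic R) {I : Ideal R}
    (hI : IsOpen (I : Set R)) (n : ℕ) : IsOpen ((I ^ n).closure : Set R) := by
  obtain ⟨hlin, I₀, hopen, hsmall⟩ := h
  obtain ⟨m, hm⟩ := hsmall _ (Basic.mem_nhds_zero hI)
  refine Basic.isOpen_of_le (I := (I₀ ^ (m * n)).closure) (Basic.closure_mono ?_) (hopen (m * n))
  rw [pow_mul]
  exact Ideal.pow_right_mono (show I₀ ^ m ≤ I from fun x hx ↦ hm (subset_closure hx)) n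

end weakly

theorem isLinearTopology_of_isPreadic {R : Type*} [CommRing R] [TopologicalSpace R]
    (h : LinTop.IsPreadic R) : IsLinearTopology R R := by
  obtain ⟨I, hI⟩ := h
  subst hI
  exact I.isLinearTopology

theorem isAdic_of_isIdealOfDefinition {R : Type*} [CommRing R] [TopologicalSpace R]
    [IsTopologicalRing R] (h : LinTop.IsPreadic R) {I : Ideal R}
    (hI : LinTop.IsIdealOfDefinition R I) : IsAdic I := by
  obtain ⟨J, hJ⟩ := h
  obtain ⟨hJo, hJb⟩ := isAdic_iff.mp hJ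
  obtain ⟨m, hm⟩ := hJb _ (Basic.mem_nhds_zero hI.1)
  refine isAdic_iff.mpr ⟨fun n ↦ ?_, fun U hU ↦ ?_⟩
  · refine Basic.isOpen_of_le ?_ (hJo (m * n))
    rw [pow_mul]
    exact Ideal.pow_right_mono (show J ^ m ≤ I from hm) n
  · obtain ⟨n, -, hn⟩ := hI.2 U hU
    exact ⟨n, hn⟩

theorem isWeaklyPreadic_of_isTaut {R : Type*} [CommRing R] [TopologicalSpace R]
    [IsTopologicalRing R] [IsLinearTopology B B] {φ : R →+* B} (hφ : LinTop.IsTaut φ)
    (hR : LinTop.IsWeaklyPreadic R) : LinTop.IsWeaklyPreadic B := by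
  obtain ⟨-, I, hopen, hsmall⟩ := hR
  refine ⟨inferInstance, I.map φ, fun n ↦ ?_, fun U hU ↦ ?_⟩
  · have h1 := isOpen_closure_map hφ (I := (I ^ n).closure) (hopen n)
    rw [Basic.closure_map_closure φ hφ.1, Ideal.map_pow] at h1
    exact h1
  · obtain ⟨I', hI', hsub⟩ := hφ.2.2 U hU
    obtain ⟨n, hn⟩ := hsmall _ (Basic.mem_nhds_zero hI')
    refine ⟨n, fun x hx ↦ hsub ?_⟩
    have hx' : x ∈ ((I.map φ) ^ n).closure := hx
    rw [← Ideal.map_pow] at hx'
    exact Basic.closure_mono (Ideal.map_mono (fun y hy ↦ hn (subset_closure hy))) hx'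

section FFlat

variable [IsTopologicalRing A] [IsLinearTopology A A]

omit [IsTopologicalRing A] [IsLinearTopology A A] in
theorem comap_closure_map {φ : A →+* B} (hφ : LinTop.IsTautFFlat φ) {I : Ideal A}
    (hI : IsOpen (I : Set A)) {x : A} (hx : φ x ∈ (I.map φ).closure) : x ∈ I := by
  have hinj := (hφ.2 I hI).injective
  rw [← Ideal.Quotient.eq_zero_iff_mem]
  refine hinj ?_
  rw [map_zero]
  show LinTop.descentMap φ I (Ideal.Quotient.mk I x) = 0
  rw [LinTop.descentMap, Ideal.quotientMap_mk, Ideal.Quotient.eq_zero_iff_mem]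
  exact hx

/-- Openness of the closure of an ideal descends along a taut faithfully flat map. -/
theorem isOpen_closure_of {φ : A →+* B} (hφ : LinTop.IsTautFFlat φ) {K : Ideal A}
    (hK : IsOpen ((K.map φ).closure : Set B)) : IsOpen (K.closure : Set A) := by
  refine Basic.isOpen_of_le (I := (K.map φ).closure.comap φ) ?_ (hK.preimage hφ.1.1)
  intro x hx
  refine Basic.mem_closure_iff_forall.mpr fun U hU ↦ ?_
  exact comap_closure_map hφ (Basic.isOpen_of_le le_sup_right hU)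
    (Basic.closure_mono (Ideal.map_mono le_sup_left) hx)

theorem isPreadmissible_of_isTautFFlat {φ : A →+* B} (hφ : LinTop.IsTautFFlat φ)
    (hB : LinTop.IsPreadmissible B) : LinTop.IsPreadmissible A := by
  obtain ⟨-, K, hK⟩ := hB
  obtain ⟨I, hI, hIK⟩ := hφ.1.2.2 _ (Basic.mem_nhds_zero hK.1)
  refine ⟨inferInstance, I, Basic.isIdealOfDefinition_iff.mpr ⟨hI, fun U hU ↦ ?_⟩⟩
  obtain ⟨n, -, hn⟩ := hK.2 _ (Basic.mem_nhds_zero (isOpen_closure_map hφ.1 hU))
  refine ⟨n, fun x hx ↦ comap_closure_map hφ hU ?_⟩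
  have h1 : I.map φ ≤ K := fun y hy ↦ hIK (subset_closure hy)
  exact hn (Ideal.pow_right_mono h1 n (Ideal.map_pow φ I n ▸ Ideal.mem_map_of_mem φ hx))

theorem isWeaklyPreadic_of_isTautFFlat [IsLinearTopology B B] {φ : A →+* B}
    (hφ : LinTop.IsTautFFlat φ) (hB : LinTop.IsWeaklyPreadic B) : LinTop.IsWeaklyPreadic A := by
  obtain ⟨hlin, I, hI⟩ := isPreadmissible_of_isTautFFlat hφ (isPreadmissible_of_isWeaklyPreadic hB)
  refine ⟨hlin, I, fun n ↦ isOpen_closure_of hφ (K := I ^ n) ?_, fun U hU ↦ ?_⟩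
  · have h1 := isOpen_closure_pow hB (isOpen_closure_map hφ.1 hI.1) n
    refine Basic.isOpen_of_le ?_ h1
    refine Basic.closure_le ?_ (Basic.isClosed_closure' _)
    rw [Ideal.map_pow]
    exact Basic.closure_pow_le _ n
  · obtain ⟨J, hJ, hJU⟩ := Basic.exists_open_ideal hU
    obtain ⟨n, hn⟩ := (Basic.isIdealOfDefinition_iff.mp hI).2 J hJ
    exact ⟨n, subset_trans (closure_minimal hn (Basic.isClosed_of_isOpen hJ)) hJU⟩

end FFlat

end Groth.Agent.Lib.LinTop.Taut
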